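import Groth.Agent.Sga3.H739.PerrinSetup
import Groth.Agent.Sga3.H962.DescField

/-!
# Quotients of quasi-compact group schemes over a field by closed normal subgroups: reduction to
the existence of a homomorphism with affine kernel to a group scheme of finite type
-/

set_option autoImplicit false
universe u
open CategoryTheory MonoidalCategory CartesianMonoidalCategory MonObj GrpObj AlgebraicGeometry Limits

namespace Groth.Agent.Sga3.H739.S4142Of

/-- Let `G` be a quasi-compact group scheme over a field with a homomorphism with affine kernel to a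
group scheme locally of finite type. Then `G` has quotients by all closed normal subgroups. -/
theorem of_affineKernel (k : Type u) [Field k] (G H : Over (Spec (CommRingCat.of k)))
    [GrpObj G] [GrpObj H] [QuasiCompact G.hom] (h : H ⟶ G) [IsMonHom h]
    (hh : IsClosedImmersion h.left) (hN : AlgGrp.IsNormalHom h)
    (hA : ∃ (N G₁ : Over (Spec (CommRingCat.of k))) (_ : GrpObj N) (_ : GrpObj G₁) (n : N ⟶ G)
      (u : G ⟶ G₁), IsMonHom n ∧ IsMonHom u ∧ AlgGrp.IsKernel n u ∧ IsAffine N.left ∧
      LocallyOfFiniteType G₁.hom) :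
    ∃ (Q : Over (Spec (CommRingCat.of k))) (_ : GrpObj Q) (q : G ⟶ Q), IsMonHom q ∧
      Surjective q.left ∧ Flat q.left ∧ QuasiCompact q.left ∧ AlgGrp.IsKernel h q := by
  obtain ⟨N, G₁, _, _, n, u, _, _, hn, _, _⟩ := hA
  obtain ⟨B, M, P, iB, iM, iP, b, m, j, p, hb, hm, hj, hp, hjm, hkm, hkj, hPaff, ⟨hb1, hb2, hb3⟩,
    ⟨hp1, hp2, hp3⟩⟩ := PerrinSetup.exists_setup h hN u n hn
  have hN' : AlgGrp.IsNormalHom (j ≫ m) := by rw [hjm]; exact hN
  obtain ⟨Q, iQ, q, hq⟩ := Groth.Agent.Sga3.H962.DescField.exists_quot_of_kernel b m hkm j p hkj hN'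
  rw [hjm] at hq
  exact ⟨Q, iQ, q, hq⟩

end Groth.Agent.Sga3.H739.S4142Of
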