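import Mathlib.AlgebraicGeometry.Sites.Fpqc
import Mathlib.AlgebraicGeometry.Morphisms.FlatDescent
import Groth.Agent.Sga3C.SchemImage
import Groth.Agent.Sga3C.FlatImage2

/-!
# Faithfully flat quasi-compact morphisms over a base, as covers

`Cov c`: the morphism `c` of `S`-schemes is flat, surjective and quasi-compact. Such morphisms are
stable under composition, base change and products, morphisms descend along them, and factoring
through a monomorphism may be tested after such a cover.
-/

set_option autoImplicit false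
universe u
open CategoryTheory MonoidalCategory CartesianMonoidalCategory MonObj GrpObj AlgebraicGeometry Limits

namespace Groth.Agent.Sga3.H739.Fpqc

open Groth.Agent.Sga3C.SchemImage

variable {S : Scheme.{u}}

/-- Faithfully flat quasi-compact morphisms over `S`. -/
structure Cov {X Y : Over S} (c : X ⟶ Y) : Prop where
  flat : Flat c.left
  surj : Surjective c.left
  qc : QuasiCompact c.left

namespace Cov

variable {X Y Z W : Over S}

theorem comp {c : X ⟶ Y} {d : Y ⟶ Z} (hc : Cov c) (hd : Cov d) : Cov (c ≫ d) := by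
  obtain ⟨_, _, _⟩ := hc
  obtain ⟨_, _, _⟩ := hd
  exact ⟨by rw [Over.comp_left]; infer_instance, by rw [Over.comp_left]; infer_instance,
    by rw [Over.comp_left]; infer_instance⟩

theorem of_isIso (c : X ⟶ Y) [IsIso c] : Cov c := by
  have : IsIso c.left := inferInstanceAs (IsIso ((Over.forget S).map c))
  exact ⟨inferInstance, inferInstance, inferInstance⟩

/-- base change -/
theorem of_isPullback_left {c : X ⟶ Y} (hc : Cov c) {P Q : Over S} {d : P ⟶ Q} {f : P.left ⟶ X.left}
    {g : Q.left ⟶ Y.left} (h : IsPullback f d.left c.left g) : Cov d := by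
  obtain ⟨_, _, _⟩ := hc
  exact ⟨MorphismProperty.of_isPullback h ‹_›, MorphismProperty.of_isPullback h ‹_›,
    MorphismProperty.of_isPullback h ‹_›⟩

theorem of_isPullback {c : X ⟶ Y} (hc : Cov c) {P Q : Over S} {d : P ⟶ Q} {f : P ⟶ X}
    {g : Q ⟶ Y} (h : IsPullback f d c g) : Cov d :=
  hc.of_isPullback_left (h.map (Over.forget S))

theorem whiskerRight {c : X ⟶ Y} (hc : Cov c) (Z : Over S) : Cov (c ▷ Z) :=
  hc.of_isPullback (isPullback_whiskerRight c Z).flip

theorem whiskerLeft {c : X ⟶ Y} (hc : Cov c) (Z : Over S) : Cov (Z ◁ c) :=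
  hc.of_isPullback (isPullback_whiskerLeft c Z).flip

theorem tensorHom {c : X ⟶ Y} {d : Z ⟶ W} (hc : Cov c) (hd : Cov d) : Cov (c ⊗ₘ d) := by
  rw [tensorHom_def]
  exact (hc.whiskerRight _).comp (hd.whiskerLeft _)

/-- cancellation on the left -/
theorem of_comp {c : X ⟶ Y} {d : Y ⟶ Z} (hc : Cov c) (hd : Cov (c ≫ d)) : Cov d := by
  have h1 := hd.flat
  have h2 := hd.surj
  have h3 := hd.qc
  obtain ⟨_, _, _⟩ := hc
  rw [Over.comp_left] at h1 h2 h3
  refine ⟨Groth.Agent.Sga3C.FlatImage2.flat_of_comp_flat_surjective c.left d.left,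
    Surjective.of_comp c.left d.left, ?_⟩
  refine ⟨fun U hU hU' => ?_⟩
  have h4 := h3.1 U hU hU'
  have h5 : (d.left : Y.left → Z.left) ⁻¹' U = c.left '' ((c.left ≫ d.left : X.left ⟶ Z.left) ⁻¹' U) := by
    ext y
    constructor
    · intro hy
      obtain ⟨x, rfl⟩ := c.left.surjective y
      exact ⟨x, by simpa using hy, rfl⟩
    · rintro ⟨x, hx, rfl⟩
      simpa using hx
  rw [h5]
  exact h4.image c.left.continuous

theorem left_epi {c : X ⟶ Y} (hc : Cov c) : Epi c.left := by
  obtain ⟨_, _, _⟩ := hc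
  exact Flat.epi_of_flat_of_surjective c.left

theorem epi {c : X ⟶ Y} (hc : Cov c) : Epi c := by
  have := hc.left_epi
  exact (Over.forget S).epi_of_epi_map (inferInstanceAs (Epi c.left))

theorem cancel {c : X ⟶ Y} (hc : Cov c) {f g : Y ⟶ Z} (h : c ≫ f = c ≫ g) : f = g := by
  have := hc.epi
  exact (cancel_epi c).1 h

/-- morphisms descend along covers -/
theorem exists_desc {c : X ⟶ Y} (hc : Cov c) (g : X ⟶ Z)
    (h : ∀ {T : Over S} (x y : T ⟶ X), x ≫ c = y ≫ c → x ≫ g = y ≫ g) :
    ∃ g' : Y ⟶ Z, c ≫ g' = g := by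
  have hepi := hc.left_epi
  obtain ⟨_, _, _⟩ := hc
  have h1 : ∀ {T : Scheme.{u}} (a b : T ⟶ X.left), a ≫ c.left = b ≫ c.left →
      a ≫ g.left = b ≫ g.left := by
    intro T a b hab
    have hw : b ≫ X.hom = a ≫ X.hom := by
      rw [← Over.w c, ← Category.assoc, ← Category.assoc, hab]
    let T' : Over S := Over.mk (a ≫ X.hom)
    let a' : T' ⟶ X := Over.homMk a rfl
    let b' : T' ⟶ X := Over.homMk b hw
    have h2 := h a' b' (by ext1; exact hab)
    exact congrArg CommaMorphism.left h2
  let g' : Y.left ⟶ Z.left := EffectiveEpi.desc c.left g.left fun a b hab => h1 a b hab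
  have hg' : c.left ≫ g' = g.left := EffectiveEpi.fac c.left g.left _
  refine ⟨Over.homMk g' ?_, ?_⟩
  · rw [← cancel_epi c.left, ← Category.assoc, hg', Over.w, Over.w]
  · ext1
    exact hg'

/-- factoring through a monomorphism may be tested after a cover -/
theorem exists_lift_of_mono {c : X ⟶ Y} (hc : Cov c) (i : Z ⟶ W) [Mono i] (g : Y ⟶ W) (l : X ⟶ Z)
    (h : l ≫ i = c ≫ g) : ∃ l' : Y ⟶ Z, l' ≫ i = g := by
  obtain ⟨l', hl'⟩ := hc.exists_desc l fun x y hxy => by
    rw [← cancel_mono i, Category.assoc, Category.assoc, h, ← Category.assoc, hxy, Category.assoc]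
  refine ⟨l', hc.cancel ?_⟩
  rw [← Category.assoc, hl', h]

/-- points lift locally along covers -/
theorem exists_local {c : X ⟶ Y} (hc : Cov c) {T : Over S} (y : T ⟶ Y) :
    ∃ (T' : Over S) (t : T' ⟶ T) (x : T' ⟶ X), Cov t ∧ x ≫ c = t ≫ y := by
  let T' : Over S := Over.mk (pullback.snd c.left y.left ≫ T.hom)
  let t : T' ⟶ T := Over.homMk (pullback.snd c.left y.left) rfl
  let x : T' ⟶ X := Over.homMk (pullback.fst c.left y.left) (by
    rw [← Over.w c, ← Category.assoc, pullback.condition, Category.assoc, Over.w]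
    rfl)
  refine ⟨T', t, x, hc.of_isPullback_left (IsPullback.of_hasPullback c.left y.left), ?_⟩
  ext1
  exact pullback.condition

end Cov

/-- A group scheme structure descends along a cover which is compatible with the multiplication. -/
theorem snd_cov {k : Type u} [Field k] (X Y : Over (Spec (CommRingCat.of k)))
    [QuasiCompact X.hom] [Nonempty X.left] : Cov (snd X Y) := by
  have h1 : Surjective X.hom := by
    refine ⟨fun s => ?_⟩
    obtain ⟨x⟩ : Nonempty X.left := ‹_›
    exact ⟨x, Subsingleton.elim _ _⟩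
  refine ⟨?_, ?_, ?_⟩
  · exact flat_snd X Y
  · rw [Over.snd_left]; infer_instance
  · rw [Over.snd_left]; infer_instance

end Groth.Agent.Sga3.H739.Fpqc
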