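import Groth.Prelude.Def_AlgGrp
import Groth.Agent.Sga3B.Pts
import Groth.Agent.Sga3C.SubGrp

/-!
# Kernels of homomorphisms of group objects, on points
-/

set_option autoImplicit false
set_option linter.unusedSectionVars false
set_option linter.unusedVariables false
universe u v
open CategoryTheory MonoidalCategory CartesianMonoidalCategory MonObj GrpObj Limits

namespace Groth.Agent.Sga3.H739.KerPts

variable {C : Type u} [Category.{v} C] [CartesianMonoidalCategory C]
variable {G H K : C} [GrpObj G] [GrpObj H]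

theorem mono_of_isPullback {k : K ⟶ G} {u : G ⟶ H} (hk : IsPullback k (toUnit K) u η[H]) :
    Mono k :=
  ⟨fun a b hab => hk.hom_ext hab (toUnit_unique _ _)⟩

theorem comp_eq_one {k : K ⟶ G} {u : G ⟶ H} (hk : IsPullback k (toUnit K) u η[H]) {T : C}
    (a : T ⟶ K) : (a ≫ k) ≫ u = 1 := by
  rw [Category.assoc, hk.w, ← Category.assoc, toUnit_unique (a ≫ toUnit K) (toUnit T),
    ← Hom.one_def]

theorem exists_lift {k : K ⟶ G} {u : G ⟶ H} (hk : IsPullback k (toUnit K) u η[H]) {T : C}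
    (x : T ⟶ G) (hx : x ≫ u = 1) : ∃ a : T ⟶ K, a ≫ k = x :=
  ⟨hk.lift x (toUnit T) (by rw [hx, Hom.one_def]), hk.lift_fst _ _ _⟩

/-- A pointwise criterion for being a kernel. -/
theorem isPullback_of_pts {k : K ⟶ G} [Mono k] {u : G ⟶ H} (h1 : k ≫ u = toUnit K ≫ η[H])
    (h2 : ∀ {T : C} (x : T ⟶ G), x ≫ u = 1 → ∃ a : T ⟶ K, a ≫ k = x) :
    IsPullback k (toUnit K) u η[H] := by
  have key : ∀ s : PullbackCone u η[H], s.fst ≫ u = 1 := fun s => by
    rw [s.condition, Hom.one_def, toUnit_unique s.snd (toUnit _)]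
  refine ⟨⟨h1⟩, ⟨PullbackCone.IsLimit.mk _ (fun s => (h2 s.fst (key s)).choose) ?_ ?_ ?_⟩⟩
  · intro s
    exact (h2 s.fst (key s)).choose_spec
  · intro s
    exact toUnit_unique _ _
  · intro s m hm _
    rw [← cancel_mono k, hm]
    exact (h2 s.fst (key s)).choose_spec.symm

/-- The kernel of a homomorphism is a group object. -/
theorem exists_kernel [HasPullbacks C] (u : G ⟶ H) [IsMonHom u] :
    ∃ (K : C) (_ : GrpObj K) (k : K ⟶ G), IsMonHom k ∧ IsPullback k (toUnit K) u η[H] := by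
  let K : C := pullback u η[H]
  let k : K ⟶ G := pullback.fst u η[H]
  have hk : IsPullback k (toUnit K) u η[H] := by
    have h := IsPullback.of_hasPullback u η[H]
    rw [toUnit_unique (pullback.snd u η[H]) (toUnit _)] at h
    exact h
  have hmono := mono_of_isPullback hk
  have h1 : ∀ {T : C} (a : T ⟶ K), (a ≫ k) ≫ u = 1 := fun a => comp_eq_one hk a
  have hm : ∃ m : K ⊗ K ⟶ K, m ≫ k = (k ⊗ₘ k) ≫ μ[G] := by
    refine exists_lift hk _ ?_
    have : (k ⊗ₘ k) ≫ μ[G] = (fst K K ≫ k) * (snd K K ≫ k) := by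
      rw [Hom.mul_def]
      congr 1
      ext1 <;> simp
    rw [this, MonObj.mul_comp, h1, h1, _root_.mul_one]
  have he : ∃ e : 𝟙_ C ⟶ K, e ≫ k = η[G] := by
    refine exists_lift hk _ ?_
    rw [IsMonHom.one_hom, one_eq_one]
  have hv : ∃ v : K ⟶ K, v ≫ k = k ≫ ι[G] := by
    refine exists_lift hk _ ?_
    have h2 : k ≫ ι[G] = k⁻¹ := rfl
    have h3 := h1 (𝟙 K)
    rw [Category.id_comp] at h3
    rw [h2, GrpObj.inv_comp, h3, inv_one]
  obtain ⟨g, hg⟩ := Groth.Agent.Sga3C.SubGrp.exists_grpObj_of_mono k hm he hv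
  exact ⟨K, g, k, hg, hk⟩

/-- A morphism into a group object whose composite with a monomorphic homomorphism is
multiplicative. -/
theorem isMonHom_of_comp_mono {K : C} [GrpObj K] (f : G ⟶ H) (i : H ⟶ K) [Mono i] [IsMonHom i]
    (h : IsMonHom (f ≫ i)) : IsMonHom f :=
  Groth.Agent.Sga3C.SubGrp.isMonHom_of_comp_mono f i

end Groth.Agent.Sga3.H739.KerPts
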