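import Groth.Agent.Sga3.H739.Fpqc
import Groth.Agent.Sga3.H739.KerPts
import Groth.Agent.Sga3.H789.FieldHull1

/-!
# Image of a quasi-compact homomorphism over a field; normality of the image
-/

set_option autoImplicit false
universe u
open CategoryTheory MonoidalCategory CartesianMonoidalCategory MonObj GrpObj AlgebraicGeometry Limits

namespace Groth.Agent.Sga3.H739.ImageFl

open Groth.Agent.Sga3.H739.Fpqc Groth.Agent.Sga3.H739.KerPts Groth.Agent.Sga3C.SchemImage

/-- A quasi-compact homomorphism from a group scheme over a field to a locally noetherian one is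
faithfully flat onto a closed subgroup scheme. -/
theorem exists_image {k : Type u} [Field k] {G H : Over (Spec (CommRingCat.of k))} [GrpObj G]
    [GrpObj H] [IsLocallyNoetherian H.left] (u : G ⟶ H) [IsMonHom u] [QuasiCompact u.left] :
    ∃ (C : Over (Spec (CommRingCat.of k))) (_ : GrpObj C) (p : G ⟶ C) (i : C ⟶ H), IsMonHom p ∧
      IsMonHom i ∧ p ≫ i = u ∧ Cov p ∧ IsClosedImmersion i.left := by
  let C : Over (Spec (CommRingCat.of k)) := Over.mk (u.left.imageι ≫ H.hom)
  let i : C ⟶ H := Over.homMk u.left.imageι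
  let p : G ⟶ C := Over.homMk u.left.toImage (by
    change u.left.toImage ≫ u.left.imageι ≫ H.hom = G.hom
    rw [Scheme.Hom.toImage_imageι_assoc, Over.w])
  have hpi : p ≫ i = u := by
    ext1
    exact Scheme.Hom.toImage_imageι _
  have hi : IsClosedImmersion i.left := inferInstanceAs (IsClosedImmersion u.left.imageι)
  have himono : Mono i := (Over.forget _).mono_of_mono_map (inferInstanceAs (Mono i.left))
  have hqc : QuasiCompact p.left := inferInstanceAs (QuasiCompact u.left.toImage)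
  have hdom : IsSchemeTheoreticallyDominant p.left := dominant_toImage u.left
  have hnoeth : IsLocallyNoetherian C.left := LocallyOfFiniteType.isLocallyNoetherian i.left
  have hfl : ∀ X : Over (Spec (CommRingCat.of k)), Flat X.hom := fun X => inferInstance
  have hm : ∃ m : C ⊗ C ⟶ C, m ≫ i = (i ⊗ₘ i) ≫ μ[H] := by
    have h0 := hfl G
    have h0' := hfl C
    have h1 := dominant_whiskerRight p G
    have h2 := dominant_whiskerLeft p C
    have h3 : IsSchemeTheoreticallyDominant (p ⊗ₘ p).left := by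
      rw [tensorHom_def, Over.comp_left]; infer_instance
    refine exists_lift_over (p ⊗ₘ p) ((i ⊗ₘ i) ≫ μ[H]) i (μ[G] ≫ p) ?_
    rw [tensorHom_comp_tensorHom_assoc, hpi, Category.assoc, hpi, IsMonHom.mul_hom]
  have he : ∃ e : 𝟙_ (Over (Spec (CommRingCat.of k))) ⟶ C, e ≫ i = η[H] :=
    ⟨η[G] ≫ p, by rw [Category.assoc, hpi, IsMonHom.one_hom]⟩
  have hv : ∃ v : C ⟶ C, v ≫ i = i ≫ ι[H] := by
    refine exists_lift_over p (i ≫ ι[H]) i (ι[G] ≫ p) ?_
    rw [Category.assoc, hpi, reassoc_of% hpi, GrpObj.inv_hom]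
  obtain ⟨gC, hgC⟩ := Groth.Agent.Sga3C.SubGrp.exists_grpObj_of_mono i hm he hv
  have hp : IsMonHom p := by
    have : IsMonHom (p ≫ i) := by rw [hpi]; infer_instance
    exact Groth.Agent.Sga3C.SubGrp.isMonHom_of_comp_mono p i
  exact ⟨C, gC, p, i, hp, hgC, hpi, ⟨Groth.Agent.Sga3.H789.FieldHull1.flat_of_dominant p,
    Groth.Agent.Sga3.H789.FieldHull1.surjective_of_dominant p, hqc⟩, hi⟩

/-- The image of a normal subgroup under a cover is normal. -/
theorem isNormalHom_image {S : Scheme.{u}} {G H G₁ C : Over S} [GrpObj G] [GrpObj H] [GrpObj G₁]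
    [GrpObj C] (h : H ⟶ G) (hN : AlgGrp.IsNormalHom h) (u : G ⟶ G₁) [IsMonHom u] (hu : Cov u)
    (p : H ⟶ C) (hp : Cov p) (j : C ⟶ G₁) [Mono j] (hpj : p ≫ j = h ≫ u) :
    AlgGrp.IsNormalHom j := by
  intro T g c
  obtain ⟨T₁, t₁, g', ht₁, hg'⟩ := hu.exists_local g
  obtain ⟨T₂, t₂, a, ht₂, ha⟩ := hp.exists_local (t₁ ≫ c)
  obtain ⟨a', ha'⟩ := hN T₂ (t₂ ≫ g') a
  obtain ⟨c', hc'⟩ := (ht₂.comp ht₁).exists_lift_of_mono j (g * (c ≫ j) * g⁻¹) (a' ≫ p) (by
    rw [Category.assoc, hpj, ← Category.assoc, ← ha', MonObj.mul_comp, MonObj.mul_comp,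
      GrpObj.inv_comp, Category.assoc, Category.assoc, ← hpj, ← Category.assoc a, ha, hg',
      MonObj.comp_mul, MonObj.comp_mul, GrpObj.comp_inv]
    simp only [Category.assoc])
  exact ⟨c', hc'.symm⟩

end Groth.Agent.Sga3.H739.ImageFl
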