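import Groth.Agent.Sga3.H739.Fpqc
import Groth.Agent.Sga3.H739.KerPts

/-!
# The second isomorphism theorem for covers

`u : G ⟶ G₁` a homomorphism with kernel `N`, `h : H ⟶ G` a normal subgroup, `p : H ⟶ C` a cover onto
a subgroup `j : C ⟶ G₁`, `j` the kernel of `π₁ : G₁ ⟶ B`, `m : M ⟶ G` the kernel of `u ≫ π₁`. Then
`H ⊗ N ⟶ M` is a cover and a cover `r : N ⟶ P` with kernel `N ∩ H` induces a cover `M ⟶ P` with
kernel `H`.
-/

set_option autoImplicit false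
set_option linter.unusedSectionVars false
set_option linter.unusedVariables false
universe u
open CategoryTheory MonoidalCategory CartesianMonoidalCategory MonObj GrpObj AlgebraicGeometry Limits

namespace Groth.Agent.Sga3.H739.SecondIso

open Groth.Agent.Sga3.H739.Fpqc Groth.Agent.Sga3.H739.KerPts

variable {S : Scheme.{u}} {G G₁ N H C B M N₀ P : Over S} [GrpObj G] [GrpObj G₁] [GrpObj N]
  [GrpObj H] [GrpObj C] [GrpObj B] [GrpObj M] [GrpObj N₀] [GrpObj P]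

/-- `N ∩ H` as a fibre product. -/
theorem isPullback_inter {u : G ⟶ G₁} {n : N ⟶ G} (hn : IsPullback n (toUnit N) u η[G₁])
    {h : H ⟶ G} {p : H ⟶ C} {j : C ⟶ G₁} [Mono j] [IsMonHom j] (hpj : p ≫ j = h ≫ u)
    {e : N₀ ⟶ H} (he : IsPullback e (toUnit N₀) p η[C]) {i₀ : N₀ ⟶ N} (hi : i₀ ≫ n = e ≫ h) :
    IsPullback e i₀ h n := by
  have hne := mono_of_isPullback hn
  have hee := mono_of_isPullback he
  have key : ∀ {T : Over S} (a : T ⟶ H) (b : T ⟶ N), a ≫ h = b ≫ n → ∃ z : T ⟶ N₀, z ≫ e = a := by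
    intro T a b hab
    refine exists_lift he a ?_
    rw [← cancel_mono j, Category.assoc, hpj, ← Category.assoc, hab, comp_eq_one hn,
      MonObj.one_comp]
  refine ⟨⟨hi.symm⟩, ⟨PullbackCone.IsLimit.mk _
    (fun s => (key s.fst s.snd s.condition).choose) ?_ ?_ ?_⟩⟩
  · intro s
    exact (key s.fst s.snd s.condition).choose_spec
  · intro s
    rw [← cancel_mono n, Category.assoc, hi, ← Category.assoc,
      (key s.fst s.snd s.condition).choose_spec, s.condition]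
  · intro s t ht _
    rw [← cancel_mono e, ht]
    exact (key s.fst s.snd s.condition).choose_spec.symm

/-- `N ∩ H` is normal in `N`. -/
theorem isNormalHom_inter {n : N ⟶ G} [Mono n] [IsMonHom n] {h : H ⟶ G}
    (hN : AlgGrp.IsNormalHom h) {e : N₀ ⟶ H} {i₀ : N₀ ⟶ N} (hp : IsPullback e i₀ h n) :
    AlgGrp.IsNormalHom i₀ := by
  intro T g z
  obtain ⟨a, ha⟩ := hN T (g ≫ n) (z ≫ e)
  have h1 : a ≫ h = (g * (z ≫ i₀) * g⁻¹) ≫ n := by
    rw [← ha, MonObj.mul_comp, MonObj.mul_comp, GrpObj.inv_comp, Category.assoc, Category.assoc,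
      hp.w]
  exact ⟨hp.lift a _ h1, (hp.lift_snd a _ h1).symm⟩

section cover

variable {u : G ⟶ G₁} [IsMonHom u] {n : N ⟶ G} [IsMonHom n]
  (hn : IsPullback n (toUnit N) u η[G₁]) {h : H ⟶ G} [IsMonHom h] {p : H ⟶ C} {j : C ⟶ G₁}
  [Mono j] [IsMonHom j] (hpj : p ≫ j = h ≫ u) {π₁ : G₁ ⟶ B} [IsMonHom π₁]
  (hj : IsPullback j (toUnit C) π₁ η[B]) {m : M ⟶ G} [IsMonHom m]
  (hm : IsPullback m (toUnit M) (u ≫ π₁) η[B]) {h' : H ⟶ M} (hh' : h' ≫ m = h) {n' : N ⟶ M}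
  (hn' : n' ≫ m = n)

/-- the multiplication map `H ⊗ N ⟶ M` -/
noncomputable def kap (h' : H ⟶ M) (n' : N ⟶ M) : H ⊗ N ⟶ M :=
  (fst H N ≫ h') * (snd H N ≫ n')

theorem lift_kap {T : Over S} (a : T ⟶ H) (b : T ⟶ N) :
    lift a b ≫ kap h' n' = (a ≫ h') * (b ≫ n') := by
  rw [kap, MonObj.comp_mul, lift_fst_assoc, lift_snd_assoc]

include hn hpj hj hm hh' hn' in
theorem isPullback_kap : ∃ c : M ⟶ C, IsPullback (fst H N) (kap h' n') p c := by
  have hmm := mono_of_isPullback hm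
  have hmn := mono_of_isPullback hn
  obtain ⟨c, hc⟩ : ∃ c : M ⟶ C, c ≫ j = m ≫ u := exists_lift hj (m ≫ u) (by
    have := comp_eq_one hm (𝟙 M)
    rwa [Category.id_comp, ← Category.assoc] at this)
  have hnu : ∀ {T : Over S} (b : T ⟶ N), (b ≫ n) ≫ u = 1 := fun b => comp_eq_one hn b
  refine ⟨c, ?_⟩
  have hw : fst H N ≫ p = kap h' n' ≫ c := by
    rw [← cancel_mono j, Category.assoc, hpj, Category.assoc, hc, kap, ← Category.assoc _ m u,
      MonObj.mul_comp, Category.assoc, Category.assoc, hh', hn', MonObj.mul_comp, hnu,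
      _root_.mul_one, Category.assoc]
  have key : ∀ {T : Over S} (a : T ⟶ H) (x : T ⟶ M), a ≫ p = x ≫ c →
      ∃ b : T ⟶ N, b ≫ n = (a ≫ h)⁻¹ * (x ≫ m) := by
    intro T a x hax
    refine exists_lift hn _ ?_
    have h1 : (a ≫ h) ≫ u = (x ≫ m) ≫ u := by
      rw [Category.assoc, ← hpj, ← Category.assoc, hax, Category.assoc, hc, Category.assoc]
    rw [MonObj.mul_comp, GrpObj.inv_comp, h1, inv_mul_cancel]
  refine ⟨⟨hw⟩, ⟨PullbackCone.IsLimit.mk _
    (fun s => lift s.fst (key s.fst s.snd s.condition).choose) ?_ ?_ ?_⟩⟩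
  · intro s
    exact lift_fst _ _
  · intro s
    have h2 := (key s.fst s.snd s.condition).choose_spec
    rw [lift_kap, ← cancel_mono m, MonObj.mul_comp, Category.assoc, Category.assoc, hh', hn', h2,
      mul_inv_cancel_left]
  · intro s t ht ht'
    have h2 := (key s.fst s.snd s.condition).choose_spec
    apply CartesianMonoidalCategory.hom_ext
    · rw [ht, lift_fst]
    · rw [lift_snd, ← cancel_mono n, h2, ← ht, ← ht', kap, MonObj.comp_mul, MonObj.mul_comp]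
      simp only [Category.assoc]
      rw [hh', hn', inv_mul_cancel_left]

include hn hpj hj hm hh' hn' in
theorem cov_kap (hp : Cov p) : Cov (kap h' n') := by
  obtain ⟨c, hc⟩ := isPullback_kap hn hpj hj hm hh' hn'
  exact hp.of_isPullback hc

end cover

omit [GrpObj H] [GrpObj N] in
theorem exists_pair {T : Over S} (x : T ⟶ H ⊗ N) : ∃ (a : T ⟶ H) (b : T ⟶ N), x = lift a b :=
  ⟨x ≫ fst H N, x ≫ snd H N, by ext1 <;> simp⟩

section rho

variable {n : N ⟶ G} [IsMonHom n] [Mono n] {h : H ⟶ G} [IsMonHom h] {m : M ⟶ G} [IsMonHom m]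
  [Mono m] {h' : H ⟶ M} (hh' : h' ≫ m = h) {n' : N ⟶ M} (hn' : n' ≫ m = n)
  {e : N₀ ⟶ H} {i₀ : N₀ ⟶ N} (hi₀ : IsPullback e i₀ h n) {r : N ⟶ P} [IsMonHom r]
  (hr : IsPullback i₀ (toUnit N₀) r η[P])

include hh' hn' hi₀ hr in
theorem exists_rho (hk : Cov (kap h' n')) : ∃ ρ : M ⟶ P, kap h' n' ≫ ρ = snd H N ≫ r := by
  refine hk.exists_desc (snd H N ≫ r) fun {T} x y hxy => ?_
  obtain ⟨a, b, rfl⟩ := exists_pair x
  obtain ⟨a', b', rfl⟩ := exists_pair y
  rw [lift_kap, lift_kap] at hxy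
  have h1 := congr($hxy ≫ m)
  rw [MonObj.mul_comp, MonObj.mul_comp] at h1
  simp only [Category.assoc] at h1
  rw [hh', hn'] at h1
  -- `b' b⁻¹ = a'⁻¹ a`
  have h2 : (a'⁻¹ * a) ≫ h = (b' * b⁻¹) ≫ n := by
    rw [MonObj.mul_comp, MonObj.mul_comp, GrpObj.inv_comp, GrpObj.inv_comp,
      inv_mul_eq_iff_eq_mul, ← _root_.mul_assoc, eq_mul_inv_iff_mul_eq, h1]
  have h3 : hi₀.lift _ _ h2 ≫ i₀ = b' * b⁻¹ := hi₀.lift_snd _ _ _
  have h4 : (b' * b⁻¹) ≫ r = 1 := by rw [← h3]; exact comp_eq_one hr _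
  rw [MonObj.mul_comp, GrpObj.inv_comp, mul_inv_eq_one] at h4
  rw [lift_snd_assoc, lift_snd_assoc]
  exact h4.symm

include hh' hn' in
theorem isMonHom_rho (hN : AlgGrp.IsNormalHom h) (hk : Cov (kap h' n')) {ρ : M ⟶ P}
    (hρ : kap h' n' ≫ ρ = snd H N ≫ r) : IsMonHom ρ := by
  have hρ' : ∀ {T : Over S} (a : T ⟶ H) (b : T ⟶ N), ((a ≫ h') * (b ≫ n')) ≫ ρ = b ≫ r := by
    intro T a b
    rw [← lift_kap, Category.assoc, hρ, lift_snd_assoc]
  apply Groth.Agent.Sga3B.Pts.isMonHom_of_points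
  intro T x y
  obtain ⟨T₁, t₁, x', ht₁, hx'⟩ := hk.exists_local x
  obtain ⟨T₂, t₂, y', ht₂, hy'⟩ := hk.exists_local (t₁ ≫ y)
  refine (ht₂.comp ht₁).cancel ?_
  obtain ⟨a, b, hx⟩ := exists_pair (t₂ ≫ x')
  obtain ⟨a', b', hy⟩ := exists_pair y'
  have ex : (t₂ ≫ t₁) ≫ x = (a ≫ h') * (b ≫ n') := by
    rw [Category.assoc, ← hx', ← Category.assoc, hx, lift_kap]
  have ey : (t₂ ≫ t₁) ≫ y = (a' ≫ h') * (b' ≫ n') := by
    rw [Category.assoc, ← hy', hy, lift_kap]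
  obtain ⟨a'', ha''⟩ := hN T₂ (b ≫ n) a'
  have h5 : (b ≫ n') * (a' ≫ h') = (a'' ≫ h') * (b ≫ n') := by
    rw [← cancel_mono m, MonObj.mul_comp, MonObj.mul_comp]
    simp only [Category.assoc]
    rw [hh', hn', ← ha'', inv_mul_cancel_right]
  have h6 : ((t₂ ≫ t₁) ≫ x) * ((t₂ ≫ t₁) ≫ y) = ((a * a'') ≫ h') * ((b * b') ≫ n') := by
    have hh1 : (a * a'') ≫ h' = (a ≫ h') * (a'' ≫ h') := by
      rw [← cancel_mono m, Category.assoc, hh', MonObj.mul_comp, MonObj.mul_comp,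
        Category.assoc, Category.assoc, hh']
    have hh2 : (b * b') ≫ n' = (b ≫ n') * (b' ≫ n') := by
      rw [← cancel_mono m, Category.assoc, hn', MonObj.mul_comp, MonObj.mul_comp,
        Category.assoc, Category.assoc, hn']
    rw [ex, ey, hh1, hh2]
    calc (a ≫ h') * (b ≫ n') * ((a' ≫ h') * (b' ≫ n')) =
        (a ≫ h') * ((b ≫ n') * (a' ≫ h')) * (b' ≫ n') := by group
      _ = _ := by rw [h5]; group
  rw [← Category.assoc, MonObj.comp_mul, h6, hρ', MonObj.comp_mul, MonObj.mul_comp,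
    ← Category.assoc, ← Category.assoc, ex, ey, hρ', hρ']

include hh' hn' hi₀ hr in
theorem isPullback_rho [Mono h] [Mono h'] (hk : Cov (kap h' n')) {ρ : M ⟶ P}
    (hρ : kap h' n' ≫ ρ = snd H N ≫ r) [IsMonHom ρ] : IsPullback h' (toUnit H) ρ η[P] := by
  have hρ' : ∀ {T : Over S} (a : T ⟶ H) (b : T ⟶ N), ((a ≫ h') * (b ≫ n')) ≫ ρ = b ≫ r := by
    intro T a b
    rw [← lift_kap, Category.assoc, hρ, lift_snd_assoc]
  have hn1 : ∀ {T : Over S}, (1 : T ⟶ N) ≫ n' = 1 := by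
    intro T
    rw [← cancel_mono m, Category.assoc, hn', MonObj.one_comp, MonObj.one_comp]
  refine isPullback_of_pts ?_ ?_
  · have h1 := hρ' (𝟙 H) 1
    rw [hn1, _root_.mul_one, Category.id_comp, MonObj.one_comp] at h1
    rw [h1, Hom.one_def]
  · intro T x hx
    obtain ⟨T₁, t₁, x', ht₁, hx'⟩ := hk.exists_local x
    obtain ⟨a, b, hx2⟩ := exists_pair x'
    have ex : t₁ ≫ x = (a ≫ h') * (b ≫ n') := by rw [← hx', hx2, lift_kap]
    have h2 : b ≫ r = 1 := by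
      rw [← hρ' a b, ← ex, Category.assoc, hx, MonObj.comp_one]
    obtain ⟨z, hz⟩ := exists_lift hr b h2
    have h3 : b ≫ n = (z ≫ e) ≫ h := by rw [← hz, Category.assoc, ← hi₀.w, Category.assoc]
    have h4 : (a * (z ≫ e)) ≫ h = t₁ ≫ (x ≫ m) := by
      rw [← Category.assoc, ex, MonObj.mul_comp, MonObj.mul_comp]
      simp only [Category.assoc]
      rw [hh', hn', h3]
      simp only [Category.assoc]
    obtain ⟨l, hl⟩ := ht₁.exists_lift_of_mono h (x ≫ m) _ h4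
    refine ⟨l, ?_⟩
    rw [← cancel_mono m, Category.assoc, hh', hl]

end rho

end Groth.Agent.Sga3.H739.SecondIso
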