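import Groth.Agent.Sga3.H739.ImageFl
import Groth.Agent.Sga3.H739.SecondIso
import Groth.Agent.Sga3.H739.AffQuot
import Groth.Agent.S3030

/-!
# Reduction of the quotient `G/H` to an affine situation over a quotient of finite type

`G` a quasi-compact group scheme over a field `k` with a homomorphism to a group scheme of finite
type with affine kernel, `H` a closed normal subgroup. Then there are a faithfully flat
quasi-compact homomorphism `b : G ⟶ B` with kernel `M ⊇ H` and a faithfully flat quasi-compact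
homomorphism `M ⟶ P` with kernel `H` onto an affine group scheme.
-/

set_option autoImplicit false
set_option linter.unusedVariables false
universe u
open CategoryTheory MonoidalCategory CartesianMonoidalCategory MonObj GrpObj AlgebraicGeometry Limits

namespace Groth.Agent.Sga3.H739.PerrinSetup

open Groth.Agent.Sga3.H739.Fpqc Groth.Agent.Sga3.H739.KerPts Groth.Agent.Sga3.H739.ImageFl
  Groth.Agent.Sga3.H739.SecondIso

variable {k : Type u} [Field k]

theorem nonempty_of_grpObj (H : Over (Spec (CommRingCat.of k))) [GrpObj H] : Nonempty H.left :=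
  ⟨(η[H] : 𝟙_ (Over (Spec (CommRingCat.of k))) ⟶ H).left (IsLocalRing.closedPoint k)⟩

theorem quasiCompact_hom {G H : Over (Spec (CommRingCat.of k))} [QuasiCompact G.hom]
    [QuasiSeparated H.hom] (u : G ⟶ H) : QuasiCompact u.left := by
  have h1 : QuasiCompact (u.left ≫ H.hom) := by rw [Over.w]; infer_instance
  exact QuasiCompact.of_comp u.left H.hom

theorem quasiSeparated_of_lft (H : Over (Spec (CommRingCat.of k))) [LocallyOfFiniteType H.hom] :
    QuasiSeparated H.hom := by
  have h1 : IsLocallyNoetherian H.left := LocallyOfFiniteType.isLocallyNoetherian H.hom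
  infer_instance

theorem isMonHom_comp' {C : Type*} [Category C] [CartesianMonoidalCategory C] {X Y Z : C}
    [MonObj X] [MonObj Y] [MonObj Z] (f : X ⟶ Y) (g : Y ⟶ Z) [IsMonHom f] [IsMonHom g] :
    IsMonHom (f ≫ g) := inferInstance

/-- The kernel does not change when the target is replaced by a subgroup. -/
theorem isPullback_of_comp_mono {S : Scheme.{u}} {N G G₂ G₁ : Over S} [GrpObj N] [GrpObj G]
    [GrpObj G₂] [GrpObj G₁] {n : N ⟶ G} {u : G ⟶ G₁} (hn : IsPullback n (toUnit N) u η[G₁])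
    {u₁ : G ⟶ G₂} {i₁ : G₂ ⟶ G₁} [Mono i₁] [IsMonHom i₁] (hu : u₁ ≫ i₁ = u) :
    IsPullback n (toUnit N) u₁ η[G₂] := by
  have hmono := mono_of_isPullback hn
  refine isPullback_of_pts ?_ fun x hx => exists_lift hn x ?_
  · rw [← cancel_mono i₁, Category.assoc, hu, Category.assoc, IsMonHom.one_hom, hn.w]
  · rw [← hu, ← Category.assoc, hx, MonObj.one_comp]

/-- **Setup.** -/
theorem exists_setup {G H G₁ N : Over (Spec (CommRingCat.of k))} [GrpObj G] [GrpObj H]
    [GrpObj G₁] [GrpObj N] [QuasiCompact G.hom] (h : H ⟶ G) [IsMonHom h]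
    [IsClosedImmersion h.left] (hN : AlgGrp.IsNormalHom h) (u : G ⟶ G₁) [IsMonHom u]
    [LocallyOfFiniteType G₁.hom] (n : N ⟶ G) [IsMonHom n] (hn : AlgGrp.IsKernel n u)
    [IsAffine N.left] :
    ∃ (B M P : Over (Spec (CommRingCat.of k))) (_ : GrpObj B) (_ : GrpObj M) (_ : GrpObj P)
      (b : G ⟶ B) (m : M ⟶ G) (j : H ⟶ M) (p : M ⟶ P), IsMonHom b ∧ IsMonHom m ∧ IsMonHom j ∧
      IsMonHom p ∧ j ≫ m = h ∧ AlgGrp.IsKernel m b ∧ AlgGrp.IsKernel j p ∧ IsAffine P.left ∧
      (Surjective b.left ∧ Flat b.left ∧ QuasiCompact b.left) ∧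
      (Surjective p.left ∧ Flat p.left ∧ QuasiCompact p.left) := by
  have hG₁ : IsLocallyNoetherian G₁.left := LocallyOfFiniteType.isLocallyNoetherian G₁.hom
  have hqs₁ := quasiSeparated_of_lft G₁
  have hqcu := quasiCompact_hom u
  have hmh : Mono h := (Over.forget _).mono_of_mono_map (inferInstanceAs (Mono h.left))
  -- the image of `u`
  obtain ⟨G₂, _, u₁, i₁, _, _, hui, hcu, hcl⟩ := exists_image u
  have himono : Mono i₁ := (Over.forget _).mono_of_mono_map (inferInstanceAs (Mono i₁.left))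
  have hn₁ : IsPullback n (toUnit N) u₁ η[G₂] := isPullback_of_comp_mono hn hui
  have hmn := mono_of_isPullback hn₁
  have hG₂ : IsLocallyNoetherian G₂.left := LocallyOfFiniteType.isLocallyNoetherian i₁.left
  have hlft₂ : LocallyOfFiniteType G₂.hom := by
    rw [← Over.w i₁]; infer_instance
  have hqs₂ := quasiSeparated_of_lft G₂
  -- the image of `H` in `G₂`
  have hqcH : QuasiCompact H.hom := by rw [← Over.w h]; infer_instance
  have hqchu := quasiCompact_hom (h ≫ u₁)
  obtain ⟨C, _, p, j, _, _, hpj, hcp, hclj⟩ := exists_image (h ≫ u₁)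
  have hmj : Mono j := (Over.forget _).mono_of_mono_map (inferInstanceAs (Mono j.left))
  have hjN : AlgGrp.IsNormalHom j := isNormalHom_image h hN u₁ hcu p hcp j hpj
  have hlftC : LocallyOfFiniteType C.hom := by
    rw [← Over.w j]; infer_instance
  obtain ⟨B, iB, π₁, _, hf1, hs1, -, hj, hsepB, -, -⟩ :=
    Groth.Agent.S3030.result k C G₂ j hjN
  -- the composite
  have hb : Cov (u₁ ≫ π₁) := by
    have h1 := hcu.flat
    have h2 := hcu.surj
    refine ⟨?_, ?_, quasiCompact_hom _⟩
    · rw [Over.comp_left]; infer_instance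
    · rw [Over.comp_left]; infer_instance
  obtain ⟨M, iM, m, hIm, hm⟩ := exists_kernel (u₁ ≫ π₁)
  have hmm := mono_of_isPullback hm
  obtain ⟨h', hh'⟩ : ∃ h' : H ⟶ M, h' ≫ m = h := exists_lift hm h (by
    rw [← Category.assoc, ← hpj]
    exact comp_eq_one hj p)
  obtain ⟨n', hn'⟩ : ∃ n' : N ⟶ M, n' ≫ m = n := exists_lift hm n (by
    have h1 := comp_eq_one hn₁ (𝟙 N)
    rw [Category.id_comp] at h1
    rw [← Category.assoc, h1, MonObj.one_comp])
  have hmh' : Mono h' := by
    have : Mono (h' ≫ m) := by rw [hh']; infer_instance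
    exact mono_of_mono h' m
  have hIh' : IsMonHom h' := KerPts.isMonHom_of_comp_mono h' m (by rw [hh']; infer_instance)
  -- the intersection
  obtain ⟨N₀, _, e, _, he⟩ := exists_kernel p
  obtain ⟨i₀, hi₀⟩ : ∃ i₀ : N₀ ⟶ N, i₀ ≫ n = e ≫ h := exists_lift hn₁ (e ≫ h) (by
    have h1 := comp_eq_one he (𝟙 N₀)
    rw [Category.id_comp] at h1
    rw [Category.assoc, ← hpj, ← Category.assoc, h1, MonObj.one_comp])
  have hpb : IsPullback e i₀ h n := isPullback_inter hn₁ hpj he hi₀
  have hIi₀ : IsMonHom i₀ := KerPts.isMonHom_of_comp_mono i₀ n (by rw [hi₀]; infer_instance)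
  have hcli₀ : IsClosedImmersion i₀.left :=
    MorphismProperty.of_isPullback (P := @IsClosedImmersion) (hpb.map (Over.forget _)) ‹_›
  have hNi₀ : AlgGrp.IsNormalHom i₀ := isNormalHom_inter hN hpb
  obtain ⟨P, iP, r, _, hPaff, hf2, hs2, hr⟩ := AffQuot.exists_quotient k N N₀ i₀ hNi₀
  have hcr : Cov r := ⟨hf2, hs2, inferInstance⟩
  -- the second isomorphism theorem
  have hk : Cov (kap h' n') := cov_kap hn₁ hpj hj hm hh' hn' hcp
  obtain ⟨ρ, hρ⟩ := exists_rho hh' hn' hpb hr hk
  have hIρ : IsMonHom ρ := isMonHom_rho hh' hn' hN hk hρ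
  have hkρ : IsPullback h' (toUnit H) ρ η[P] := isPullback_rho hh' hn' hpb hr hk hρ
  have hneH := nonempty_of_grpObj H
  have hcρ : Cov ρ := by
    refine hk.of_comp ?_
    rw [hρ]
    exact (snd_cov H N).comp hcr
  exact ⟨B, M, P, iB, iM, iP, u₁ ≫ π₁, m, h', ρ, inferInstance, hIm, hIh', hIρ, hh', hm, hkρ,
    hPaff, ⟨hb.surj, hb.flat, hb.qc⟩, ⟨hcρ.surj, hcρ.flat, hcρ.qc⟩⟩

end Groth.Agent.Sga3.H739.PerrinSetup
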